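import Groth.Agent.KoszTw.K869.Loc
import Mathlib.CategoryTheory.Abelian.Basic

/-!
# The image statement for twisted Koszul complexes
-/

set_option autoImplicit false
set_option backward.isDefEq.respectTransparency false
universe u
open CategoryTheory CategoryTheory.Limits AlgebraicGeometry Opposite TopologicalSpace
open Groth.Agent.Fdesc.LocGen Groth.Agent.Ega2.TensGen
open exteriorPower

namespace K869.KoszTwLoc

variable {X : Scheme.{u}}

theorem image_le {A B M : X.Modules} (f : A ⟶ M) (g : B ⟶ M) (P : X.affineOpens → Prop)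
    (hP : ∀ (V : X.Opens) (x : X), x ∈ V → ∃ U : X.affineOpens, U.1 ≤ V ∧ x ∈ U.1 ∧ P U)
    (h : ∀ U : X.affineOpens, P U → ∀ m : Γ(A, U.1), ∃ n : Γ(B, U.1), f.app U.1 m = g.app U.1 n) :
    imageSubobject f ≤ imageSubobject g := by
  have h0 : f ≫ cokernel.π (imageSubobject g).arrow = 0 := by
    refine hom_ext_basis _ _ P hP fun U hU m => ?_
    obtain ⟨n, hn⟩ := h U hU m
    change (cokernel.π (imageSubobject g).arrow).app U.1 (f.app U.1 m) = 0
    rw [hn]
    have h1 : g ≫ cokernel.π (imageSubobject g).arrow = 0 := by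
      have h2 : (factorThruImageSubobject g ≫ (imageSubobject g).arrow) ≫ cokernel.π (imageSubobject g).arrow = 0 := by
        rw [Category.assoc, cokernel.condition, comp_zero]
      rwa [imageSubobject_arrow_comp] at h2
    exact congr(($h1).app U.1 n)
  exact imageSubobject_le f (Abelian.monoLift _ f h0) (Abelian.monoLift_comp _ _ _)

variable {F L : X.Modules} {s : F ⟶ Coh.structureModule X} {t : CohB1.tensorMod F L ⟶ Coh.structureModule X}
  {lam : Coh.structureModule X ⟶ L}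

variable (htri : KoszTw.TwistTriangle s lam t) (C : KoszSh.Cx F s) (D : KoszSh.Cx (CohB1.tensorMod F L) t)

theorem unitorR_inv_app (M : X.Modules) (U : X.Opens) (m : Γ(M, U)) :
    (SecTwist.unitorR M).inv.app U m = tmul m (ofFun (1 : Γ(X, U))) := by
  have h1 : (SecTwist.unitorR M).hom.app U (tmul m (ofFun (1 : Γ(X, U)))) = m := by
    refine (SecTwist.unitorR_tmul M U m (1 : Γ(X, U))).trans ?_
    exact one_smul _ _
  have h2 := congr(($((SecTwist.unitorR M).hom_inv_id)).app U (tmul m (ofFun (1 : Γ(X, U)))))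
  change (SecTwist.unitorR M).inv.app U ((SecTwist.unitorR M).hom.app U (tmul m (ofFun (1 : Γ(X, U))))) = _ at h2
  rw [h1] at h2
  exact h2

/-- first map -/
theorem f_app (q : ℕ) {U : X.affineOpens} {l : Γ(L, U.1)} (y : ↥(⋀[Γ(X, U.1)]^(q + 1) Γ(F, U.1))) :
    (KoszTw.tensorMap (KoszTw.tensorMap (C.K.d (q + 1) q) (𝟙 (CohB1.tensorPow L q))) (𝟙 L)).app U.1
      (tmul (tmul ((C.loc (q + 1) U).symm y) (pow l q)) l) =
      tmul (tmul ((C.loc q U).symm (kap C q U y)) (pow l q)) l := by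
  refine (KoszTw.tensorMap_tmul _ _ _ _ _).trans ?_
  have h : (KoszTw.tensorMap (C.K.d (q + 1) q) (𝟙 (CohB1.tensorPow L q))).app U.1
      (tmul ((C.loc (q + 1) U).symm y) (pow l q)) = tmul ((C.loc q U).symm (kap C q U y)) (pow l q) := by
    refine (KoszTw.tensorMap_tmul _ _ _ _ _).trans ?_
    rw [d_eq_kap]
    rfl
  rw [h]
  rfl

include htri in
/-- second map -/
theorem g_app (q : ℕ) (θ : KoszTw.CxDecData C D q) {U : X.affineOpens} {l : Γ(L, U.1)} (hl : IsGen l)
    (y : ↥(⋀[Γ(X, U.1)]^(q + 1) Γ(F, U.1))) :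
    ((SecTwist.unitorR (D.K.X (q + 1))).inv ≫ KoszTw.tensorMap (D.K.d (q + 1) q) lam ≫
        KoszTw.tensorMap θ.iso.hom (𝟙 L)).app U.1 ((D.loc (q + 1) U).symm (exteriorPower.map (q + 1) (tau l) y)) =
      tmul (tmul ((C.loc q U).symm (kap C q U y)) (pow l q)) l := by
  obtain ⟨a, ha⟩ := exists_coeff lam U.1 hl
  change (KoszTw.tensorMap θ.iso.hom (𝟙 L)).app U.1 ((KoszTw.tensorMap (D.K.d (q + 1) q) lam).app U.1
    ((SecTwist.unitorR (D.K.X (q + 1))).inv.app U.1 ((D.loc (q + 1) U).symm (exteriorPower.map (q + 1) (tau l) y)))) = _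
  rw [unitorR_inv_app]
  have h1 : (KoszTw.tensorMap (D.K.d (q + 1) q) lam).app U.1
      (tmul ((D.loc (q + 1) U).symm (exteriorPower.map (q + 1) (tau l) y)) (ofFun (1 : Γ(X, U.1)))) =
      tmul ((D.loc q U).symm (exteriorPower.map q (tau l) (kap C q U y))) l := by
    refine (KoszTw.tensorMap_tmul _ _ _ _ _).trans ?_
    rw [ha, one_mul, d_eq_kap]
    change tmul ((D.loc q U).symm (kap D q U (exteriorPower.map (q + 1) (tau l) y))) (a • l) = _
    rw [tmul_smul, ← smul_tmul, ← map_smul, smul_kap htri C D q U hl ha y]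
  rw [h1]
  refine (KoszTw.tensorMap_tmul _ _ _ _ _).trans ?_
  rw [theta_apply]
  rfl

include htri in
theorem image_eq (hF : FlatMod.IsFinLocFree F) (hL : PicF.IsInvertible L) (q : ℕ) (θ : KoszTw.CxDecData C D q) :
    Limits.imageSubobject (KoszTw.tensorMap (KoszTw.tensorMap (C.K.d (q + 1) q) (𝟙 (CohB1.tensorPow L q))) (𝟙 L)) =
      Limits.imageSubobject ((SecTwist.unitorR (D.K.X (q + 1))).inv ≫ KoszTw.tensorMap (D.K.d (q + 1) q) lam ≫
        KoszTw.tensorMap θ.iso.hom (𝟙 L)) := by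
  apply le_antisymm
  · refine image_le _ _ (Good F L) (exists_good hF hL) fun U hU m => ?_
    obtain ⟨⟨l, hl⟩, -⟩ := hU
    obtain ⟨m', rfl⟩ := exists_eq_tmul hl m
    obtain ⟨m'', rfl⟩ := exists_eq_tmul (hl.pow q) m'
    obtain ⟨y, rfl⟩ := (C.loc (q + 1) U).symm.surjective m''
    exact ⟨(D.loc (q + 1) U).symm (exteriorPower.map (q + 1) (tau l) y),
      (f_app C q y).trans (g_app htri C D q θ hl y).symm⟩
  · refine image_le _ _ (Good F L) (exists_good hF hL) fun U hU m => ?_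
    obtain ⟨⟨l, hl⟩, -⟩ := hU
    obtain ⟨y, rfl⟩ := exists_rep D (q + 1) hl m
    exact ⟨tmul (tmul ((C.loc (q + 1) U).symm y) (pow l q)) l,
      (g_app htri C D q θ hl y).trans (f_app C q y).symm⟩

end K869.KoszTwLoc
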