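import Groth.Agent.Sga67.LocBasis
import Groth.Agent.Ega2.TensGen
import Groth.Prelude.Def_KoszTw
import Mathlib.LinearAlgebra.ExteriorPower.Basis

/-!
# Koszul complexes of a twisted cosection, locally

On an affine open `U` where `L` has a generator `l`: the comparison of the Koszul complexes of `(F, s)` and
`(F ⊗ L, t)`.
-/

set_option autoImplicit false
set_option backward.isDefEq.respectTransparency false
universe u
open CategoryTheory CategoryTheory.Limits AlgebraicGeometry Opposite TopologicalSpace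
open Groth.Agent.Fdesc.LocGen Groth.Agent.Ega2.TensGen
open exteriorPower

namespace K869.KoszTwLoc

variable {X : Scheme.{u}}

theorem hom_ext_basis {M N : X.Modules} (f g : M ⟶ N) (P : X.affineOpens → Prop)
    (hP : ∀ (V : X.Opens) (x : X), x ∈ V → ∃ U : X.affineOpens, U.1 ≤ V ∧ x ∈ U.1 ∧ P U)
    (h : ∀ U : X.affineOpens, P U → ∀ m : Γ(M, U.1), f.app U.1 m = g.app U.1 m) : f = g := by
  apply Scheme.Modules.hom_ext
  intro V
  ext m
  choose W hWV hxW hPW using fun x : V => hP V x.1 x.2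
  refine res_ext N (fun x => (W x).1) hWV (fun x hx => Opens.mem_iSup.2 ⟨⟨x, hx⟩, hxW _⟩) fun x => ?_
  have h1 := app_res f (hWV x) m
  have h2 := app_res g (hWV x) m
  have h3 := h (W x) (hPW x) (res M (hWV x) m)
  rw [h1, h2] at h3
  exact h3

/-- The action on sections, linear. -/
noncomputable def appLin {M N : X.Modules} (f : M ⟶ N) (U : X.Opens) : Γ(M, U) →ₗ[Γ(X, U)] Γ(N, U) where
  toFun := f.app U
  map_add' _ _ := map_add _ _ _
  map_smul' _ _ := Scheme.Modules.Hom.app_smul ..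

theorem tmul_eq' {M N : X.Modules} {U : X.Opens} (m : Γ(M, U)) (n : Γ(N, U)) :
    SecTwist.tmul M N U m n = tmul m n := rfl

variable {F L : X.Modules}

theorem tprod_eq (U : X.Opens) (l : Γ(L, U)) (q : ℕ) : KoszTw.tprod L q U (fun _ => l) = pow l q := by
  induction q with
  | zero => rfl
  | succ q ih =>
    change SecTwist.tmul _ _ U (KoszTw.tprod L q U (fun _ => l)) l = tmul (pow l q) l
    rw [ih]
    rfl

/-- `f ↦ f ⊗ l` -/
noncomputable def tau {M N : X.Modules} {U : X.Opens} (l : Γ(N, U)) : Γ(M, U) →ₗ[Γ(X, U)] Γ(CohB1.tensorMod M N, U) where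
  toFun f := tmul f l
  map_add' a b := add_tmul a b l
  map_smul' r a := smul_tmul r a l

theorem tau_bijective {M N : X.Modules} {U : X.Opens} {l : Γ(N, U)} (hl : IsGen l) :
    Function.Bijective (tau (M := M) l) := tmul_gen_bijective hl

/-- `f ↦ f ⊗ l` -/
noncomputable def tauEquiv {M N : X.Modules} {U : X.Opens} {l : Γ(N, U)} (hl : IsGen l) :
    Γ(M, U) ≃ₗ[Γ(X, U)] Γ(CohB1.tensorMod M N, U) := LinearEquiv.ofBijective (tau l) (tau_bijective hl)

theorem map_bijective {R M N : Type*} [CommRing R] [AddCommGroup M] [Module R M] [AddCommGroup N] [Module R N]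
    (e : M ≃ₗ[R] N) (p : ℕ) : Function.Bijective (exteriorPower.map p e.toLinearMap) := by
  constructor
  · exact exteriorPower.map_injective e.symm.toLinearMap (by ext; simp)
  · exact exteriorPower.map_surjective e.surjective

variable {s : F ⟶ Coh.structureModule X} {t : CohB1.tensorMod F L ⟶ Coh.structureModule X}

/-- The Koszul differential over an affine open. -/
noncomputable def kap (C : KoszSh.Cx F s) (p : ℕ) (U : X.affineOpens) :
    ↥(⋀[Γ(X, U.1)]^(p + 1) Γ(F, U.1)) →ₗ[Γ(X, U.1)] ↥(⋀[Γ(X, U.1)]^p Γ(F, U.1)) :=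
  (C.loc p U).toLinearMap ∘ₗ appLin (C.K.d (p + 1) p) U.1 ∘ₗ (C.loc (p + 1) U).symm.toLinearMap

theorem kap_ιMulti (C : KoszSh.Cx F s) (p : ℕ) (U : X.affineOpens) (e : Fin (p + 1) → Γ(F, U.1)) :
    kap C p U (ιMulti _ (p + 1) e) = KoszSh.dGen (KoszSh.secForm s U.1) p e := by
  have h := C.rule p U e
  change (C.loc p U) ((C.K.d (p + 1) p).app U.1 ((C.loc (p + 1) U).symm (ιMulti _ (p + 1) e))) = _
  rw [h, LinearEquiv.apply_symm_apply]

theorem d_eq_kap (C : KoszSh.Cx F s) (p : ℕ) (U : X.affineOpens) (y : ↥(⋀[Γ(X, U.1)]^(p + 1) Γ(F, U.1))) :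
    (C.K.d (p + 1) p).app U.1 ((C.loc (p + 1) U).symm y) = (C.loc p U).symm (kap C p U y) := by
  change _ = (C.loc p U).symm ((C.loc p U) ((C.K.d (p + 1) p).app U.1 ((C.loc (p + 1) U).symm y)))
  rw [LinearEquiv.symm_apply_apply]

/-- The function `a` with `λ(1) = a l`. -/
theorem exists_coeff (lam : Coh.structureModule X ⟶ L) (U : X.Opens) {l : Γ(L, U)} (hl : IsGen l) :
    ∃ a : Γ(X, U), ∀ r : Γ(X, U), lam.app U (ofFun r) = (r * a) • l := by
  obtain ⟨a, ha⟩ := hl.exists_eq (lam.app U (one U))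
  refine ⟨a, fun r => ?_⟩
  rw [ofFun_eq_smul, Scheme.Modules.Hom.app_smul, mul_smul, ha]

variable {lam : Coh.structureModule X ⟶ L}

theorem coeff_mul (htri : KoszTw.TwistTriangle s lam t) (U : X.Opens) {l : Γ(L, U)} (hl : IsGen l)
    {a : Γ(X, U)} (ha : ∀ r : Γ(X, U), lam.app U (ofFun r) = (r * a) • l) (f : Γ(F, U)) :
    a * KoszSh.secForm t U (tau l f) = KoszSh.secForm s U f := by
  apply hl.ext
  have h1 := htri U f l
  rw [← h1, mul_comm a]
  exact (ha (KoszSh.secForm t U (tau l f))).symm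

theorem smul_kap (htri : KoszTw.TwistTriangle s lam t) (C : KoszSh.Cx F s) (D : KoszSh.Cx (CohB1.tensorMod F L) t)
    (p : ℕ) (U : X.affineOpens) {l : Γ(L, U.1)} (hl : IsGen l)
    {a : Γ(X, U.1)} (ha : ∀ r : Γ(X, U.1), lam.app U.1 (ofFun r) = (r * a) • l)
    (y : ↥(⋀[Γ(X, U.1)]^(p + 1) Γ(F, U.1))) :
    a • kap D p U (exteriorPower.map (p + 1) (tau l) y) = exteriorPower.map p (tau l) (kap C p U y) := by
  have key : a • (kap D p U ∘ₗ exteriorPower.map (p + 1) (tau l)) = exteriorPower.map p (tau l) ∘ₗ kap C p U := by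
    apply exteriorPower.linearMap_ext
    ext e : 1
    change a • kap D p U (exteriorPower.map (p + 1) (tau l) (ιMulti _ (p + 1) e)) =
      exteriorPower.map p (tau l) (kap C p U (ιMulti _ (p + 1) e))
    rw [exteriorPower.map_apply_ιMulti, kap_ιMulti, kap_ιMulti, KoszSh.dGen, KoszSh.dGen, Finset.smul_sum, map_sum]
    refine Finset.sum_congr rfl fun i _ => ?_
    rw [map_smul, exteriorPower.map_apply_ιMulti, smul_smul]
    congr 1
    rw [← coeff_mul htri U.1 hl ha (e i)]
    simp only [Function.comp_apply]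
    ring
  exact LinearMap.congr_fun key y

theorem theta_apply (C : KoszSh.Cx F s) (D : KoszSh.Cx (CohB1.tensorMod F L) t) (p : ℕ) (θ : KoszTw.CxDecData C D p)
    (U : X.affineOpens) (l : Γ(L, U.1)) (y : ↥(⋀[Γ(X, U.1)]^p Γ(F, U.1))) :
    θ.iso.hom.app U.1 ((D.loc p U).symm (exteriorPower.map p (tau l) y)) =
      tmul ((C.loc p U).symm y) (pow l p) := by
  have key : appLin θ.iso.hom U.1 ∘ₗ (D.loc p U).symm.toLinearMap ∘ₗ exteriorPower.map p (tau l) =
      tau (pow l p) ∘ₗ (C.loc p U).symm.toLinearMap := by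
    apply exteriorPower.linearMap_ext
    ext e : 1
    have h := θ.rule U e (fun _ => l)
    rw [tprod_eq] at h
    change θ.iso.hom.app U.1 ((D.loc p U).symm (exteriorPower.map p (tau l) (ιMulti _ p e))) =
      tmul ((C.loc p U).symm (ιMulti _ p e)) (pow l p)
    rw [exteriorPower.map_apply_ιMulti]
    exact h
  exact LinearMap.congr_fun key y

/-! ### Good opens -/

variable (F L) in
/-- Affine opens over which `L` has a generator and `F` is free. -/
def Good (U : X.affineOpens) : Prop :=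
  (∃ l : Γ(L, U.1), IsGen l) ∧ Module.Free Γ(X, U.1) Γ(F, U.1)

theorem exists_good (hF : FlatMod.IsFinLocFree F) (hL : PicF.IsInvertible L) (V : X.Opens) (x : X) (hx : x ∈ V) :
    ∃ U : X.affineOpens, U.1 ≤ V ∧ x ∈ U.1 ∧ Good F L U := by
  obtain ⟨W, n, hxW, b, hb⟩ := (Groth.Agent.Sga67.LocBasis.isFinLocFree_iff F).1 hF x
  obtain ⟨U, l, hxU, hU, haff, hl⟩ := exists_affine_gen hL x (V := V ⊓ W) ⟨hx, hxW⟩
  exact ⟨⟨U, haff⟩, hU.trans inf_le_left, hxU, ⟨l, hl⟩, Module.Free.of_basis (hb.basis (hU.trans inf_le_right))⟩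

theorem smul_eq_zero_of_free {R M : Type*} [CommRing R] [AddCommGroup M] [Module R M] [Module.Free R M] {a : R}
    (ha : ∀ r : R, r * a = 0 → r = 0) {m : M} (h : a • m = 0) : m = 0 := by
  apply (Module.Free.chooseBasis R M).repr.injective
  ext i
  rw [map_zero, Finsupp.zero_apply]
  apply ha
  have := DFunLike.congr_fun (congrArg (Module.Free.chooseBasis R M).repr h) i
  rw [map_smul, Finsupp.smul_apply, map_zero, Finsupp.zero_apply, smul_eq_mul, mul_comm] at this
  exact this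

section

variable (htri : KoszTw.TwistTriangle s lam t) (C : KoszSh.Cx F s) (D : KoszSh.Cx (CohB1.tensorMod F L) t)

theorem exists_rep (p : ℕ) {U : X.affineOpens} {l : Γ(L, U.1)} (hl : IsGen l)
    (x : Γ(D.K.X p, U.1)) : ∃ y : ↥(⋀[Γ(X, U.1)]^p Γ(F, U.1)),
      (D.loc p U).symm (exteriorPower.map p (tau l) y) = x := by
  obtain ⟨y, hy⟩ := (map_bijective (tauEquiv (M := F) hl) p).2 (D.loc p U x)
  refine ⟨y, ?_⟩
  rw [LinearEquiv.symm_apply_eq]
  exact hy

include htri in
theorem kernel_iff [Mono lam] (q : ℕ) (θ : KoszTw.CxDecData C D (q + 1)) {U : X.affineOpens} (hU : Good F L U)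
    (x : Γ(D.K.X (q + 1), U.1)) :
    (θ.iso.hom ≫ KoszTw.tensorMap (C.K.d (q + 1) q) (𝟙 (CohB1.tensorPow L (q + 1)))).app U.1 x = 0 ↔
      (D.K.d (q + 1) q).app U.1 x = 0 := by
  obtain ⟨⟨l, hl⟩, hfree⟩ := hU
  obtain ⟨a, ha⟩ := exists_coeff lam U.1 hl
  have hreg : ∀ r : Γ(X, U.1), r * a = 0 → r = 0 := by
    intro r hr
    have h1 := ha r
    rw [hr, zero_smul] at h1
    exact Groth.Agent.Sga67.Sec.injective_of_mono lam U.1 (h1.trans (map_zero _).symm)
  obtain ⟨y, rfl⟩ := exists_rep D (q + 1) hl x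
  have e1 : (θ.iso.hom ≫ KoszTw.tensorMap (C.K.d (q + 1) q) (𝟙 (CohB1.tensorPow L (q + 1)))).app U.1
      ((D.loc (q + 1) U).symm (exteriorPower.map (q + 1) (tau l) y)) =
      tmul ((C.loc q U).symm (kap C q U y)) (pow l (q + 1)) := by
    change (KoszTw.tensorMap (C.K.d (q + 1) q) (𝟙 (CohB1.tensorPow L (q + 1)))).app U.1
      (θ.iso.hom.app U.1 ((D.loc (q + 1) U).symm (exteriorPower.map (q + 1) (tau l) y))) = _
    rw [theta_apply]
    refine (KoszTw.tensorMap_tmul _ _ _ _ _).trans ?_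
    rw [d_eq_kap]
    rfl
  rw [e1, d_eq_kap]
  have e2 : tmul ((C.loc q U).symm (kap C q U y)) (pow l (q + 1)) = 0 ↔ kap C q U y = 0 := by
    constructor
    · intro h
      have h2 := tmul_gen_eq_zero (hl.pow (q + 1)) h
      rwa [LinearEquiv.map_eq_zero_iff] at h2
    · intro h
      rw [h, map_zero, zero_tmul]
  rw [e2, LinearEquiv.map_eq_zero_iff]
  have e3 := smul_kap htri C D q U hl ha y
  have hinj := (map_bijective (tauEquiv (M := F) hl) q).1
  constructor
  · intro h
    rw [h, map_zero] at e3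
    have : Module.Free Γ(X, U.1) Γ(CohB1.tensorMod F L, U.1) := Module.Free.of_equiv (tauEquiv (M := F) hl)
    exact smul_eq_zero_of_free hreg e3
  · intro h
    rw [h, smul_zero] at e3
    exact hinj (e3.symm.trans (map_zero _).symm)

include htri in
theorem kernel_eq (hF : FlatMod.IsFinLocFree F) (hL : PicF.IsInvertible L) [Mono lam] (q : ℕ)
    (θ : KoszTw.CxDecData C D (q + 1)) :
    Limits.kernelSubobject (θ.iso.hom ≫ KoszTw.tensorMap (C.K.d (q + 1) q) (𝟙 (CohB1.tensorPow L (q + 1)))) =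
      Limits.kernelSubobject (D.K.d (q + 1) q) := by
  apply le_antisymm
  · apply Limits.le_kernelSubobject
    refine hom_ext_basis _ _ (Good F L) (exists_good hF hL) fun U hU m => ?_
    have h := (kernel_iff htri C D q θ hU ((Limits.kernelSubobject (θ.iso.hom ≫ KoszTw.tensorMap (C.K.d (q + 1) q)
      (𝟙 (CohB1.tensorPow L (q + 1))))).arrow.app U.1 m)).1 ?_
    · exact h
    · exact congr(($(Limits.kernelSubobject_arrow_comp (θ.iso.hom ≫ KoszTw.tensorMap (C.K.d (q + 1) q)
        (𝟙 (CohB1.tensorPow L (q + 1)))))).app U.1 m)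
  · apply Limits.le_kernelSubobject
    refine hom_ext_basis _ _ (Good F L) (exists_good hF hL) fun U hU m => ?_
    have h := (kernel_iff htri C D q θ hU ((Limits.kernelSubobject (D.K.d (q + 1) q)).arrow.app U.1 m)).2 ?_
    · exact h
    · exact congr(($(Limits.kernelSubobject_arrow_comp (D.K.d (q + 1) q))).app U.1 m)

end

end K869.KoszTwLoc
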